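import Cfsg.Agent.OD.Pre
import Cfsg.Agent.H6.Top2
import Cfsg.Agent.H6.F24A.D0
import Cfsg.Agent.H6.F24A.D1
import Cfsg.Agent.H6.F24A.D2
import Cfsg.Agent.H6.F24A.D3
set_option autoImplicit false
set_option maxRecDepth 100000
set_option Elab.async false
set_option linter.all false
namespace CfH6.F24A
open CfH6 MulAction
noncomputable def n0_0 : Net := mkNet (nat_lit 327680) [(nat_lit 163840, k0), (nat_lit 81920, k1), (nat_lit 40960, k2), (nat_lit 20480, k3), (nat_lit 10240, k4), (nat_lit 5120, k5), (nat_lit 2560, k6), (nat_lit 1280, k7), (nat_lit 640, k8), (nat_lit 320, k9), (nat_lit 160, k10), (nat_lit 80, k11), (nat_lit 40, k12), (nat_lit 20, k13), (nat_lit 10, k14), (nat_lit 5, k15)] [(k16, nat_lit 1), (k17, nat_lit 1), (k18, nat_lit 1), (k19, nat_lit 1), (k20, nat_lit 1)]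
noncomputable def n0_1 : Net := mkNet (nat_lit 327680) [(nat_lit 163840, k21), (nat_lit 81920, k22), (nat_lit 40960, k23), (nat_lit 20480, k24), (nat_lit 10240, k25), (nat_lit 5120, k26), (nat_lit 2560, k27), (nat_lit 1280, k28), (nat_lit 640, k29), (nat_lit 320, k30), (nat_lit 160, k31), (nat_lit 80, k32), (nat_lit 40, k33), (nat_lit 20, k34), (nat_lit 10, k35), (nat_lit 5, k36)] [(k37, nat_lit 1), (k38, nat_lit 1), (k39, nat_lit 1), (k40, nat_lit 1), (k41, nat_lit 1)]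
noncomputable def n0_2 : Net := mkNet (nat_lit 327680) [(nat_lit 163840, k42), (nat_lit 81920, k43), (nat_lit 40960, k44), (nat_lit 20480, k45), (nat_lit 10240, k46), (nat_lit 5120, k47), (nat_lit 2560, k48), (nat_lit 1280, k49), (nat_lit 640, k50), (nat_lit 320, k51), (nat_lit 160, k52), (nat_lit 80, k53), (nat_lit 40, k54), (nat_lit 20, k55), (nat_lit 10, k56), (nat_lit 5, k57)] [(k58, nat_lit 1), (k59, nat_lit 1), (k60, nat_lit 1), (k61, nat_lit 1), (k62, nat_lit 1)]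
noncomputable def n0_3 : Net := mkNet (nat_lit 327680) [(nat_lit 163840, k63), (nat_lit 81920, k64), (nat_lit 40960, k65), (nat_lit 20480, k66), (nat_lit 10240, k67), (nat_lit 5120, k68), (nat_lit 2560, k69), (nat_lit 1280, k70), (nat_lit 640, k71), (nat_lit 320, k72), (nat_lit 160, k73), (nat_lit 80, k74), (nat_lit 40, k75), (nat_lit 20, k76), (nat_lit 10, k77), (nat_lit 5, k78)] [(k79, nat_lit 1), (k80, nat_lit 1), (k81, nat_lit 1), (k82, nat_lit 1), (k83, nat_lit 1)]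
noncomputable def n0_4 : Net := mkNet (nat_lit 327680) [(nat_lit 163840, k84), (nat_lit 81920, k85), (nat_lit 40960, k86), (nat_lit 20480, k87), (nat_lit 10240, k88), (nat_lit 5120, k89), (nat_lit 2560, k90), (nat_lit 1280, k91), (nat_lit 640, k92), (nat_lit 320, k93), (nat_lit 160, k94), (nat_lit 80, k95), (nat_lit 40, k96), (nat_lit 20, k97), (nat_lit 10, k98), (nat_lit 5, k99)] [(k100, nat_lit 1), (k101, nat_lit 1), (k102, nat_lit 1), (k103, nat_lit 1), (k104, nat_lit 1)]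
noncomputable def n0_5 : Net := mkNet (nat_lit 327680) [(nat_lit 163840, k105), (nat_lit 81920, k106), (nat_lit 40960, k107), (nat_lit 20480, k108), (nat_lit 10240, k109), (nat_lit 5120, k110), (nat_lit 2560, k111), (nat_lit 1280, k112), (nat_lit 640, k113), (nat_lit 320, k114), (nat_lit 160, k115), (nat_lit 80, k116), (nat_lit 40, k117), (nat_lit 20, k118), (nat_lit 10, k119), (nat_lit 5, k120)] [(k121, nat_lit 1), (k122, nat_lit 1), (k123, nat_lit 1), (k124, nat_lit 1), (k125, nat_lit 1)]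
noncomputable def n0_6 : Net := mkNet (nat_lit 327680) [(nat_lit 163840, k126), (nat_lit 81920, k127), (nat_lit 40960, k128), (nat_lit 20480, k129), (nat_lit 10240, k130), (nat_lit 5120, k131), (nat_lit 2560, k132), (nat_lit 1280, k133), (nat_lit 640, k134), (nat_lit 320, k135), (nat_lit 160, k136), (nat_lit 80, k137), (nat_lit 40, k138), (nat_lit 20, k139), (nat_lit 10, k140), (nat_lit 5, k141)] [(k142, nat_lit 1), (k143, nat_lit 1), (k144, nat_lit 1), (k145, nat_lit 1), (k146, nat_lit 1)]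
noncomputable def n0_7 : Net := mkNet (nat_lit 327680) [(nat_lit 163840, k147), (nat_lit 81920, k148), (nat_lit 40960, k149), (nat_lit 20480, k150), (nat_lit 10240, k151), (nat_lit 5120, k152), (nat_lit 2560, k153), (nat_lit 1280, k154), (nat_lit 640, k155), (nat_lit 320, k156), (nat_lit 160, k157), (nat_lit 80, k158), (nat_lit 40, k159), (nat_lit 20, k160), (nat_lit 10, k161), (nat_lit 5, k162)] [(k163, nat_lit 1), (k164, nat_lit 1), (k165, nat_lit 1), (k166, nat_lit 1), (k167, nat_lit 1)]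
noncomputable def n0_8 : Net := mkNet (nat_lit 327680) [(nat_lit 163840, k168), (nat_lit 81920, k169), (nat_lit 40960, k170), (nat_lit 20480, k171), (nat_lit 10240, k172), (nat_lit 5120, k173), (nat_lit 2560, k174), (nat_lit 1280, k175), (nat_lit 640, k176), (nat_lit 320, k177), (nat_lit 160, k178), (nat_lit 80, k179), (nat_lit 40, k180), (nat_lit 20, k181), (nat_lit 10, k182), (nat_lit 5, k183)] [(k184, nat_lit 1), (k185, nat_lit 1), (k186, nat_lit 1), (k187, nat_lit 1), (k188, nat_lit 1)]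
noncomputable def n0_9 : Net := mkNet (nat_lit 327680) [(nat_lit 163840, k189), (nat_lit 81920, k190), (nat_lit 40960, k191), (nat_lit 20480, k192), (nat_lit 10240, k193), (nat_lit 5120, k194), (nat_lit 2560, k195), (nat_lit 1280, k196), (nat_lit 640, k197), (nat_lit 320, k198), (nat_lit 160, k199), (nat_lit 80, k200), (nat_lit 40, k201), (nat_lit 20, k202), (nat_lit 10, k203), (nat_lit 5, k204)] [(k205, nat_lit 1), (k206, nat_lit 1), (k207, nat_lit 1), (k208, nat_lit 1), (k209, nat_lit 1)]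
noncomputable def n0_10 : Net := mkNet (nat_lit 327680) [(nat_lit 163840, k210), (nat_lit 81920, k211), (nat_lit 40960, k212), (nat_lit 20480, k213), (nat_lit 10240, k214), (nat_lit 5120, k215), (nat_lit 2560, k216), (nat_lit 1280, k217), (nat_lit 640, k218), (nat_lit 320, k219), (nat_lit 160, k220), (nat_lit 80, k221), (nat_lit 40, k222), (nat_lit 20, k223), (nat_lit 10, k224), (nat_lit 5, k225)] [(k226, nat_lit 1), (k227, nat_lit 1), (k228, nat_lit 1), (k229, nat_lit 1), (k230, nat_lit 1)]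
noncomputable def n0_11 : Net := mkNet (nat_lit 327680) [(nat_lit 163840, k231), (nat_lit 81920, k232), (nat_lit 40960, k233), (nat_lit 20480, k234), (nat_lit 10240, k235), (nat_lit 5120, k236), (nat_lit 2560, k237), (nat_lit 1280, k238), (nat_lit 640, k239), (nat_lit 320, k240), (nat_lit 160, k241), (nat_lit 80, k242), (nat_lit 40, k243), (nat_lit 20, k244), (nat_lit 10, k245), (nat_lit 5, k246)] [(k247, nat_lit 1), (k248, nat_lit 1), (k249, nat_lit 1), (k250, nat_lit 1), (k251, nat_lit 1)]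
noncomputable def n0_12 : Net := mkNet (nat_lit 327680) [(nat_lit 163840, k252), (nat_lit 81920, k253), (nat_lit 40960, k254), (nat_lit 20480, k255), (nat_lit 10240, k256), (nat_lit 5120, k257), (nat_lit 2560, k258), (nat_lit 1280, k259), (nat_lit 640, k260), (nat_lit 320, k261), (nat_lit 160, k262), (nat_lit 80, k263), (nat_lit 40, k264), (nat_lit 20, k265), (nat_lit 10, k266), (nat_lit 5, k267)] [(k268, nat_lit 1), (k269, nat_lit 1), (k270, nat_lit 1), (k271, nat_lit 1), (k272, nat_lit 1)]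
noncomputable def n0_13 : Net := mkNet (nat_lit 327680) [(nat_lit 163840, k273), (nat_lit 81920, k274), (nat_lit 40960, k275), (nat_lit 20480, k276), (nat_lit 10240, k277), (nat_lit 5120, k278), (nat_lit 2560, k279), (nat_lit 1280, k280), (nat_lit 640, k281), (nat_lit 320, k282), (nat_lit 160, k283), (nat_lit 80, k284), (nat_lit 40, k285), (nat_lit 20, k286), (nat_lit 10, k287), (nat_lit 5, k288)] [(k289, nat_lit 1), (k290, nat_lit 1), (k291, nat_lit 1), (k292, nat_lit 1), (k293, nat_lit 1)]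
noncomputable def n2_0 : Net := mkNet (nat_lit 4096) [(nat_lit 2048, k294), (nat_lit 1024, k295), (nat_lit 512, k296), (nat_lit 256, k297), (nat_lit 128, k298), (nat_lit 64, k299), (nat_lit 32, k300), (nat_lit 16, k301), (nat_lit 8, k302), (nat_lit 4, k303), (nat_lit 2, k304)] [(k305, nat_lit 1)]
noncomputable def n2_1 : Net := mkNet (nat_lit 4096) [(nat_lit 2048, k306), (nat_lit 1024, k307), (nat_lit 512, k308), (nat_lit 256, k309), (nat_lit 128, k310), (nat_lit 64, k311), (nat_lit 32, k312), (nat_lit 16, k313), (nat_lit 8, k314), (nat_lit 4, k315), (nat_lit 2, k316)] [(k317, nat_lit 1)]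
noncomputable def n2_2 : Net := mkNet (nat_lit 4096) [(nat_lit 2048, k318), (nat_lit 1024, k319), (nat_lit 512, k320), (nat_lit 256, k321), (nat_lit 128, k322), (nat_lit 64, k323), (nat_lit 32, k324), (nat_lit 16, k325), (nat_lit 8, k326), (nat_lit 4, k327), (nat_lit 2, k328)] [(k329, nat_lit 1)]
noncomputable def n2_3 : Net := mkNet (nat_lit 4096) [(nat_lit 2048, k330), (nat_lit 1024, k331), (nat_lit 512, k332), (nat_lit 256, k333), (nat_lit 128, k334), (nat_lit 64, k335), (nat_lit 32, k336), (nat_lit 16, k337), (nat_lit 8, k338), (nat_lit 4, k339), (nat_lit 2, k340)] [(k341, nat_lit 1)]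
noncomputable def n2_4 : Net := mkNet (nat_lit 4096) [(nat_lit 2048, k342), (nat_lit 1024, k343), (nat_lit 512, k344), (nat_lit 256, k345), (nat_lit 128, k346), (nat_lit 64, k347), (nat_lit 32, k348), (nat_lit 16, k349), (nat_lit 8, k350), (nat_lit 4, k351), (nat_lit 2, k352)] [(k353, nat_lit 1)]
noncomputable def n3_0 : Net := mkNet (nat_lit 768) [(nat_lit 384, k354), (nat_lit 192, k355), (nat_lit 96, k356), (nat_lit 48, k357), (nat_lit 24, k358), (nat_lit 12, k359), (nat_lit 6, k360), (nat_lit 3, k361)] [(k362, nat_lit 1), (k363, nat_lit 1), (k364, nat_lit 1)]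
noncomputable def n3_1 : Net := mkNet (nat_lit 768) [(nat_lit 384, k365), (nat_lit 192, k366), (nat_lit 96, k367), (nat_lit 48, k368), (nat_lit 24, k369), (nat_lit 12, k370), (nat_lit 6, k371), (nat_lit 3, k372)] [(k373, nat_lit 1), (k374, nat_lit 1), (k375, nat_lit 1)]
noncomputable def n3_2 : Net := mkNet (nat_lit 768) [(nat_lit 384, k376), (nat_lit 192, k377), (nat_lit 96, k378), (nat_lit 48, k379), (nat_lit 24, k380), (nat_lit 12, k381), (nat_lit 6, k382), (nat_lit 3, k383)] [(k384, nat_lit 1), (k385, nat_lit 1), (k386, nat_lit 1)]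
noncomputable def n3_3 : Net := mkNet (nat_lit 768) [(nat_lit 384, k387), (nat_lit 192, k388), (nat_lit 96, k389), (nat_lit 48, k390), (nat_lit 24, k391), (nat_lit 12, k392), (nat_lit 6, k393), (nat_lit 3, k394)] [(k395, nat_lit 1), (k396, nat_lit 1), (k397, nat_lit 1)]
noncomputable def n4_0 : Net := mkNet (nat_lit 256) [(nat_lit 128, k398), (nat_lit 64, k399), (nat_lit 32, k400), (nat_lit 16, k401), (nat_lit 8, k402), (nat_lit 4, k403), (nat_lit 2, k404)] [(k405, nat_lit 1)]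
noncomputable def n4_1 : Net := mkNet (nat_lit 256) [(nat_lit 128, k406), (nat_lit 64, k407), (nat_lit 32, k408), (nat_lit 16, k409), (nat_lit 8, k410), (nat_lit 4, k411), (nat_lit 2, k412)] [(k413, nat_lit 1)]
noncomputable def n4_2 : Net := mkNet (nat_lit 256) [(nat_lit 128, k414), (nat_lit 64, k415), (nat_lit 32, k416), (nat_lit 16, k417), (nat_lit 8, k418), (nat_lit 4, k419), (nat_lit 2, k420)] [(k421, nat_lit 1)]
noncomputable def n4_3 : Net := mkNet (nat_lit 256) [(nat_lit 128, k422), (nat_lit 64, k423), (nat_lit 32, k424), (nat_lit 16, k425), (nat_lit 8, k426), (nat_lit 4, k427), (nat_lit 2, k428)] [(k429, nat_lit 1)]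
noncomputable def n5_0 : Net := mkNet (nat_lit 96) [(nat_lit 48, (nat_lit 0x5ac4df3a624049a2c7247860)), (nat_lit 24, (nat_lit 0x58b2c00224ec0e88400a8c40)), (nat_lit 12, (nat_lit 0x4720e0410008f44e903c00e0)), (nat_lit 6, (nat_lit 0x510250000a96f6c24410a020)), (nat_lit 3, (nat_lit 0x620e224348a898032c238700))] [((nat_lit 0x240048048208049001009040), nat_lit 1), ((nat_lit 0x92492482080480090092400), nat_lit 1), ((nat_lit 0x40248001000040008048000), nat_lit 1)]
noncomputable def n5_1 : Net := mkNet (nat_lit 96) [(nat_lit 48, (nat_lit 0xa32c145b0604b20c14493644)), (nat_lit 24, (nat_lit 0xb8874b2fc0307b072e6d322e)), (nat_lit 12, (nat_lit 0x9af3dc01d0b46906b0e00ec2)), (nat_lit 6, (nat_lit 0x470f122a897cb24596890286)), (nat_lit 3, (nat_lit 0x3a81401a622ea4122a36436))] [((nat_lit 0x8241048209200001200248), nat_lit 1), ((nat_lit 0x480482010482490400482090), nat_lit 1), ((nat_lit 0x40041000041240000201000), nat_lit 1)]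
noncomputable def n5_2 : Net := mkNet (nat_lit 96) [(nat_lit 48, (nat_lit 0x1c440c9862001c440c986200)), (nat_lit 24, (nat_lit 0xa40200a402a3d400a3d400)), (nat_lit 12, (nat_lit 0x302300288288ea0ea0900800)), (nat_lit 6, (nat_lit 0x58630c00038ef3c248820)), (nat_lit 3, (nat_lit 0x36212008912dac030012d80))] [((nat_lit 0x48009000048040200208240), nat_lit 1), ((nat_lit 0x12002002400410492400080), nat_lit 1), ((nat_lit 0x8001000000000200200040), nat_lit 1)]
noncomputable def n6_0 : Net := mkNet (nat_lit 32) [(nat_lit 16, (nat_lit 0x4021d02)), (nat_lit 8, (nat_lit 0x1f029290)), (nat_lit 4, (nat_lit 0x98eee422)), (nat_lit 2, (nat_lit 0xa4c00840))] [((nat_lit 0x10104010), nat_lit 1)]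
noncomputable def n6_1 : Net := mkNet (nat_lit 32) [(nat_lit 16, (nat_lit 0x20823782)), (nat_lit 8, (nat_lit 0x17121210)), (nat_lit 4, (nat_lit 0x98440022)), (nat_lit 2, (nat_lit 0x80e80240))] [((nat_lit 0x10100410), nat_lit 1)]
noncomputable def n7_0 : Net := mkNet (nat_lit 24) [(nat_lit 12, (nat_lit 0x9a09a0)), (nat_lit 6, (nat_lit 0xd34820)), (nat_lit 3, (nat_lit 0x436800))] [((nat_lit 0x41200), nat_lit 1), ((nat_lit 0x12080), nat_lit 1), ((nat_lit 0x1000), nat_lit 1)]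
noncomputable def n7_1 : Net := mkNet (nat_lit 24) [(nat_lit 12, (nat_lit 0x480400)), (nat_lit 6, (nat_lit 0xc30000)), (nat_lit 3, (nat_lit 0x10100))] [((nat_lit 0x41200), nat_lit 1), ((nat_lit 0x480400), nat_lit 1), ((nat_lit 0x40200), nat_lit 1)]
noncomputable def n8_0 : Net := mkNet (nat_lit 16) [(nat_lit 8, (nat_lit 0)), (nat_lit 4, (nat_lit 0x3000)), (nat_lit 2, (nat_lit 0))] [((nat_lit 0x400), nat_lit 1)]
noncomputable def n8_1 : Net := mkNet (nat_lit 16) [(nat_lit 8, (nat_lit 0)), (nat_lit 4, (nat_lit 0x4400)), (nat_lit 2, (nat_lit 0xe200))] [((nat_lit 0x4100), nat_lit 1)]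
noncomputable def nets0 : List Net := [n0_0, n0_1, n0_2, n0_3, n0_4, n0_5, n0_6, n0_7, n0_8, n0_9, n0_10, n0_11, n0_12, n0_13]
noncomputable def nets1 : List Net := [n0_2, n0_3, n0_4, n0_5, n0_6, n0_7, n0_8, n0_10, n0_11, n0_9, n0_0]
def ws1 : List (List ℕ) := [[2],
  [3],
  [4],
  [5],
  [6],
  [7],
  [8],
  [10],
  [11],
  [9],
  [0]]
noncomputable def nets2 : List Net := [n2_0, n2_1, n2_2, n2_3, n2_4]
def ws2 : List (List ℕ) := [[0, 1, 2, 3, 4, 5, 6, 7, 3, 2, 1, 4, 3, 2, 5, 8, 7, 3, 2, 1, 0, 4, 3, 2, 1, 5, 4, 3, 7, 3, 2, 4, 3, 5, 9, 6, 5, 4, 3, 2, 7, 3, 4, 8, 4, 3, 7, 2, 3, 4, 5, 6, 9, 5, 3, 4, 2, 3, 7, 3, 4, 5, 1, 2, 3, 4, 0, 1, 2, 3, 7, 8, 5, 2, 3, 4, 1, 2, 3, 7, 6, 5, 4, 3, 2, 1, 0],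
  [7],
  [5],
  [4],
  [3]]
noncomputable def nets3 : List Net := [n3_0, n3_1, n3_2, n3_3]
def ws3 : List (List ℕ) := [[0, 1, 2, 3, 4, 1, 0, 2, 4, 0, 3, 0, 2, 0, 3, 2, 0, 3, 4, 1, 0, 4, 3, 0],
  [2],
  [3],
  [4]]
noncomputable def nets4 : List Net := [n4_0, n4_1, n4_2, n4_3]
def ws4 : List (List ℕ) := [[3, 2, 0, 3, 3, 2, 0, 3],
  [0, 1, 0, 0],
  [1],
  [2]]
noncomputable def nets5 : List Net := [n5_0, n5_1, n5_2]
def ws5 : List (List ℕ) := [[2, 0, 1, 2, 2, 0, 1, 2],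
  [3, 0, 3],
  [1]]
noncomputable def nets6 : List Net := [n6_0, n6_1]
def ws6 : List (List ℕ) := [[1, 0, 1, 2, 0, 2],
  [1, 0, 1, 0, 2]]
noncomputable def nets7 : List Net := [n7_0, n7_1]
def ws7 : List (List ℕ) := [[0, 1, 0, 0, 0, 0, 0, 1, 1, 1, 0, 1],
  [0, 0, 0, 1, 0, 0, 1, 0, 1]]
noncomputable def nets8 : List Net := [n8_0, n8_1]
def ws8 : List (List ℕ) := [[0, 0, 1, 1, 0],
  [1, 1, 1, 1]]
def sig : List (List ℕ) := [[0],
  [1],
  [2],
  [3],
  [4],
  [5],
  [6],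
  [7],
  [8],
  [9],
  [10],
  [11],
  [2, 3, 4, 5, 6, 7, 10],
  [5, 4, 3, 2, 1, 0, 5, 6, 7, 8, 9, 5, 10, 11]]
def eqs0 : List (List ℕ × List ℕ) := [([12], [2, 3, 4, 5, 6, 7, 10]),
  ([13], [5, 4, 3, 2, 1, 0, 5, 6, 7, 8, 9, 5, 10, 11]),
  ([0], [12, 12, 12, 12, 12, 12, 12, 12, 12]),
  ([13, 13, 13, 13, 13, 13, 13, 13, 13, 13, 13, 13, 13, 13, 13, 13, 13], []),
  ([0, 0], []),
  ([1, 1], []),
  ([2, 2], []),
  ([3, 3], []),
  ([4, 4], []),
  ([5, 5], []),
  ([6, 6], []),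
  ([7, 7], []),
  ([8, 8], []),
  ([9, 9], []),
  ([10, 10], []),
  ([11, 11], []),
  ([0, 1, 0], [1, 0, 1]),
  ([0, 2], [2, 0]),
  ([0, 3], [3, 0]),
  ([0, 4], [4, 0]),
  ([0, 5], [5, 0]),
  ([0, 6], [6, 0])]
def eqs1 : List (List ℕ × List ℕ) := [([0, 7], [7, 0]),
  ([0, 8], [8, 0]),
  ([0, 9], [9, 0]),
  ([0, 10], [10, 0]),
  ([0, 11], [11, 0]),
  ([1, 2, 1], [2, 1, 2]),
  ([1, 3], [3, 1]),
  ([1, 4], [4, 1]),
  ([1, 5], [5, 1]),
  ([1, 6], [6, 1]),
  ([1, 7], [7, 1]),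
  ([1, 8], [8, 1]),
  ([1, 9], [9, 1]),
  ([1, 10], [10, 1]),
  ([1, 11], [11, 1]),
  ([2, 3, 2], [3, 2, 3]),
  ([2, 4], [4, 2]),
  ([2, 5], [5, 2]),
  ([2, 6], [6, 2]),
  ([2, 7], [7, 2]),
  ([2, 8], [8, 2]),
  ([2, 9], [9, 2]),
  ([2, 10], [10, 2]),
  ([2, 11], [11, 2]),
  ([3, 4, 3], [4, 3, 4]),
  ([3, 5], [5, 3]),
  ([3, 6], [6, 3]),
  ([3, 7], [7, 3]),
  ([3, 8], [8, 3]),
  ([3, 9], [9, 3]),
  ([3, 10], [10, 3]),
  ([3, 11], [11, 3])]
def eqs2 : List (List ℕ × List ℕ) := [([4, 5, 4], [5, 4, 5]),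
  ([4, 6], [6, 4]),
  ([4, 7], [7, 4]),
  ([4, 8], [8, 4]),
  ([4, 9], [9, 4]),
  ([4, 10], [10, 4]),
  ([4, 11], [11, 4]),
  ([5, 6, 5], [6, 5, 6]),
  ([5, 7], [7, 5]),
  ([5, 8], [8, 5]),
  ([5, 9], [9, 5]),
  ([5, 10, 5], [10, 5, 10]),
  ([5, 11], [11, 5]),
  ([6, 7, 6], [7, 6, 7]),
  ([6, 8], [8, 6]),
  ([6, 9], [9, 6]),
  ([6, 10], [10, 6]),
  ([6, 11], [11, 6]),
  ([7, 8, 7], [8, 7, 8]),
  ([7, 9], [9, 7]),
  ([7, 10], [10, 7]),
  ([7, 11], [11, 7]),
  ([8, 9, 8], [9, 8, 9]),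
  ([8, 10], [10, 8]),
  ([8, 11], [11, 8]),
  ([9, 10], [10, 9]),
  ([9, 11], [11, 9]),
  ([10, 11, 10], [11, 10, 11])]
def eqs : List (List ℕ × List ℕ) := eqs0 ++ (eqs1 ++ (eqs2))
def lU : List (ℕ × ℕ) := [(0, 14), (16, 5), (24, 5), (32, 62), (96, 158), (256, 487), (768, 2511), (4096, 303694)]
noncomputable def U : ℕ := ivls lU
def l1 : List (ℕ × ℕ) := [(1, 1), (4096, 275263)]
noncomputable def S1 : ℕ := ivls l1
def w1 : List ℕ := [1]
def l2 : List (ℕ × ℕ) := [(2, 12), (16, 5), (24, 5), (32, 62), (96, 158), (256, 487), (768, 2511), (279359, 28431)]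
noncomputable def S2 : ℕ := ivls l2
def w2 : List ℕ := [1, 2, 0, 1]
noncomputable def J : List (List ℕ × ℕ × ℕ) := [(w1, 1, S1), (w2, 279359, S2)]
def lBig : List (ℕ × ℕ) := [(1, 1), (4096, 275263)]
noncomputable def J2 : List (List ℕ × ℕ × ℕ) := [([1, 2, 0, 2, 0], 1, S1)]
noncomputable def J1 : List (List ℕ × ℕ × ℕ) := [([0], 1, S1)]
end CfH6.F24A
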