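import Cfsg.Agent.OD.Pre
import Cfsg.Agent.H6.Top2
import Cfsg.Agent.H6.F24A.C
set_option autoImplicit false
set_option maxRecDepth 100000
set_option Elab.async false
set_option linter.all false
namespace CfH6.F24A
open CfH6 MulAction
theorem e0_0 : EqsOk nets0 eqs0 327680 19 0 1 :=
  eqsOk_of _ _ _ _ 0 1 _ (by decide) (by decide +kernel)
theorem e0_1 : EqsOk nets0 eqs0 327680 19 1 2 :=
  eqsOk_of _ _ _ _ 1 1 _ (by decide) (by decide +kernel)
theorem e0_2 : EqsOk nets0 eqs0 327680 19 2 3 :=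
  eqsOk_of _ _ _ _ 2 1 _ (by decide) (by decide +kernel)
theorem e0_3 : EqsOk nets0 eqs0 327680 19 3 4 :=
  eqsOk_of _ _ _ _ 3 1 _ (by decide) (by decide +kernel)
theorem e0_4 : EqsOk nets0 eqs0 327680 19 4 5 :=
  eqsOk_of _ _ _ _ 4 1 _ (by decide) (by decide +kernel)
theorem e0_5 : EqsOk nets0 eqs0 327680 19 5 6 :=
  eqsOk_of _ _ _ _ 5 1 _ (by decide) (by decide +kernel)
theorem e0_6 : EqsOk nets0 eqs0 327680 19 6 7 :=
  eqsOk_of _ _ _ _ 6 1 _ (by decide) (by decide +kernel)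
theorem e0_7 : EqsOk nets0 eqs0 327680 19 7 8 :=
  eqsOk_of _ _ _ _ 7 1 _ (by decide) (by decide +kernel)
theorem e0_8 : EqsOk nets0 eqs0 327680 19 8 9 :=
  eqsOk_of _ _ _ _ 8 1 _ (by decide) (by decide +kernel)
theorem e0_9 : EqsOk nets0 eqs0 327680 19 9 10 :=
  eqsOk_of _ _ _ _ 9 1 _ (by decide) (by decide +kernel)
theorem e0_10 : EqsOk nets0 eqs0 327680 19 10 11 :=
  eqsOk_of _ _ _ _ 10 1 _ (by decide) (by decide +kernel)
theorem e0_11 : EqsOk nets0 eqs0 327680 19 11 12 :=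
  eqsOk_of _ _ _ _ 11 1 _ (by decide) (by decide +kernel)
theorem e0_12 : EqsOk nets0 eqs0 327680 19 12 13 :=
  eqsOk_of _ _ _ _ 12 1 _ (by decide) (by decide +kernel)
theorem e0_13 : EqsOk nets0 eqs0 327680 19 13 14 :=
  eqsOk_of _ _ _ _ 13 1 _ (by decide) (by decide +kernel)
theorem e0_14 : EqsOk nets0 eqs0 327680 19 14 15 :=
  eqsOk_of _ _ _ _ 14 1 _ (by decide) (by decide +kernel)
theorem e0_15 : EqsOk nets0 eqs0 327680 19 15 16 :=
  eqsOk_of _ _ _ _ 15 1 _ (by decide) (by decide +kernel)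
theorem e0_16 : EqsOk nets0 eqs0 327680 19 16 17 :=
  eqsOk_of _ _ _ _ 16 1 _ (by decide) (by decide +kernel)
theorem e0_17 : EqsOk nets0 eqs0 327680 19 17 18 :=
  eqsOk_of _ _ _ _ 17 1 _ (by decide) (by decide +kernel)
theorem e0_18 : EqsOk nets0 eqs0 327680 19 18 19 :=
  eqsOk_of _ _ _ _ 18 1 _ (by decide) (by decide +kernel)
theorem e1_0 : EqsOk nets0 eqs1 327680 19 0 1 :=
  eqsOk_of _ _ _ _ 0 1 _ (by decide) (by decide +kernel)
theorem e1_1 : EqsOk nets0 eqs1 327680 19 1 2 :=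
  eqsOk_of _ _ _ _ 1 1 _ (by decide) (by decide +kernel)
theorem e1_2 : EqsOk nets0 eqs1 327680 19 2 3 :=
  eqsOk_of _ _ _ _ 2 1 _ (by decide) (by decide +kernel)
theorem e1_3 : EqsOk nets0 eqs1 327680 19 3 4 :=
  eqsOk_of _ _ _ _ 3 1 _ (by decide) (by decide +kernel)
theorem e1_4 : EqsOk nets0 eqs1 327680 19 4 5 :=
  eqsOk_of _ _ _ _ 4 1 _ (by decide) (by decide +kernel)
theorem e1_5 : EqsOk nets0 eqs1 327680 19 5 6 :=
  eqsOk_of _ _ _ _ 5 1 _ (by decide) (by decide +kernel)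
theorem e1_6 : EqsOk nets0 eqs1 327680 19 6 7 :=
  eqsOk_of _ _ _ _ 6 1 _ (by decide) (by decide +kernel)
theorem e1_7 : EqsOk nets0 eqs1 327680 19 7 8 :=
  eqsOk_of _ _ _ _ 7 1 _ (by decide) (by decide +kernel)
theorem e1_8 : EqsOk nets0 eqs1 327680 19 8 9 :=
  eqsOk_of _ _ _ _ 8 1 _ (by decide) (by decide +kernel)
theorem e1_9 : EqsOk nets0 eqs1 327680 19 9 10 :=
  eqsOk_of _ _ _ _ 9 1 _ (by decide) (by decide +kernel)
theorem e1_10 : EqsOk nets0 eqs1 327680 19 10 11 :=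
  eqsOk_of _ _ _ _ 10 1 _ (by decide) (by decide +kernel)
theorem e1_11 : EqsOk nets0 eqs1 327680 19 11 12 :=
  eqsOk_of _ _ _ _ 11 1 _ (by decide) (by decide +kernel)
theorem e1_12 : EqsOk nets0 eqs1 327680 19 12 13 :=
  eqsOk_of _ _ _ _ 12 1 _ (by decide) (by decide +kernel)
theorem e1_13 : EqsOk nets0 eqs1 327680 19 13 14 :=
  eqsOk_of _ _ _ _ 13 1 _ (by decide) (by decide +kernel)
theorem e1_14 : EqsOk nets0 eqs1 327680 19 14 15 :=
  eqsOk_of _ _ _ _ 14 1 _ (by decide) (by decide +kernel)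
theorem e1_15 : EqsOk nets0 eqs1 327680 19 15 16 :=
  eqsOk_of _ _ _ _ 15 1 _ (by decide) (by decide +kernel)
theorem e1_16 : EqsOk nets0 eqs1 327680 19 16 17 :=
  eqsOk_of _ _ _ _ 16 1 _ (by decide) (by decide +kernel)
theorem e1_17 : EqsOk nets0 eqs1 327680 19 17 18 :=
  eqsOk_of _ _ _ _ 17 1 _ (by decide) (by decide +kernel)
theorem e1_18 : EqsOk nets0 eqs1 327680 19 18 19 :=
  eqsOk_of _ _ _ _ 18 1 _ (by decide) (by decide +kernel)
theorem e2_0 : EqsOk nets0 eqs2 327680 19 0 1 :=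
  eqsOk_of _ _ _ _ 0 1 _ (by decide) (by decide +kernel)
theorem e2_1 : EqsOk nets0 eqs2 327680 19 1 2 :=
  eqsOk_of _ _ _ _ 1 1 _ (by decide) (by decide +kernel)
theorem e2_2 : EqsOk nets0 eqs2 327680 19 2 3 :=
  eqsOk_of _ _ _ _ 2 1 _ (by decide) (by decide +kernel)
theorem e2_3 : EqsOk nets0 eqs2 327680 19 3 4 :=
  eqsOk_of _ _ _ _ 3 1 _ (by decide) (by decide +kernel)
theorem e2_4 : EqsOk nets0 eqs2 327680 19 4 5 :=
  eqsOk_of _ _ _ _ 4 1 _ (by decide) (by decide +kernel)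
theorem e2_5 : EqsOk nets0 eqs2 327680 19 5 6 :=
  eqsOk_of _ _ _ _ 5 1 _ (by decide) (by decide +kernel)
theorem e2_6 : EqsOk nets0 eqs2 327680 19 6 7 :=
  eqsOk_of _ _ _ _ 6 1 _ (by decide) (by decide +kernel)
theorem e2_7 : EqsOk nets0 eqs2 327680 19 7 8 :=
  eqsOk_of _ _ _ _ 7 1 _ (by decide) (by decide +kernel)
theorem e2_8 : EqsOk nets0 eqs2 327680 19 8 9 :=
  eqsOk_of _ _ _ _ 8 1 _ (by decide) (by decide +kernel)
theorem e2_9 : EqsOk nets0 eqs2 327680 19 9 10 :=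
  eqsOk_of _ _ _ _ 9 1 _ (by decide) (by decide +kernel)
theorem e2_10 : EqsOk nets0 eqs2 327680 19 10 11 :=
  eqsOk_of _ _ _ _ 10 1 _ (by decide) (by decide +kernel)
theorem e2_11 : EqsOk nets0 eqs2 327680 19 11 12 :=
  eqsOk_of _ _ _ _ 11 1 _ (by decide) (by decide +kernel)
theorem e2_12 : EqsOk nets0 eqs2 327680 19 12 13 :=
  eqsOk_of _ _ _ _ 12 1 _ (by decide) (by decide +kernel)
theorem e2_13 : EqsOk nets0 eqs2 327680 19 13 14 :=
  eqsOk_of _ _ _ _ 13 1 _ (by decide) (by decide +kernel)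
theorem e2_14 : EqsOk nets0 eqs2 327680 19 14 15 :=
  eqsOk_of _ _ _ _ 14 1 _ (by decide) (by decide +kernel)
theorem e2_15 : EqsOk nets0 eqs2 327680 19 15 16 :=
  eqsOk_of _ _ _ _ 15 1 _ (by decide) (by decide +kernel)
theorem e2_16 : EqsOk nets0 eqs2 327680 19 16 17 :=
  eqsOk_of _ _ _ _ 16 1 _ (by decide) (by decide +kernel)
theorem e2_17 : EqsOk nets0 eqs2 327680 19 17 18 :=
  eqsOk_of _ _ _ _ 17 1 _ (by decide) (by decide +kernel)
theorem e2_18 : EqsOk nets0 eqs2 327680 19 18 19 :=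
  eqsOk_of _ _ _ _ 18 1 _ (by decide) (by decide +kernel)
theorem ok0 : okNets 327680 nets0 = true := by decide +kernel
theorem x1_0 : NxOk nets0 ws1 nets1 11 327680 19 327680 0 3 :=
  nxOk_of _ _ _ _ _ _ _ 0 3 _ (by decide) (by decide +kernel)
theorem x1_3 : NxOk nets0 ws1 nets1 11 327680 19 327680 3 6 :=
  nxOk_of _ _ _ _ _ _ _ 3 3 _ (by decide) (by decide +kernel)
theorem x1_6 : NxOk nets0 ws1 nets1 11 327680 19 327680 6 9 :=
  nxOk_of _ _ _ _ _ _ _ 6 3 _ (by decide) (by decide +kernel)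
theorem x1_9 : NxOk nets0 ws1 nets1 11 327680 19 327680 9 12 :=
  nxOk_of _ _ _ _ _ _ _ 9 3 _ (by decide) (by decide +kernel)
theorem x1_12 : NxOk nets0 ws1 nets1 11 327680 19 327680 12 15 :=
  nxOk_of _ _ _ _ _ _ _ 12 3 _ (by decide) (by decide +kernel)
theorem x1_15 : NxOk nets0 ws1 nets1 11 327680 19 327680 15 18 :=
  nxOk_of _ _ _ _ _ _ _ 15 3 _ (by decide) (by decide +kernel)
theorem x1_18 : NxOk nets0 ws1 nets1 11 327680 19 327680 18 19 :=
  nxOk_of _ _ _ _ _ _ _ 18 1 _ (by decide) (by decide +kernel)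
theorem sx1 : sideNx ws1 nets1 12 327680 19 327680 = true := by decide +kernel
theorem x2_0 : NxOk nets1 ws2 nets2 5 327680 19 4096 0 1 :=
  nxOk_of _ _ _ _ _ _ _ 0 1 _ (by decide) (by decide +kernel)
theorem x2_1 : NxOk nets1 ws2 nets2 5 327680 19 4096 1 2 :=
  nxOk_of _ _ _ _ _ _ _ 1 1 _ (by decide) (by decide +kernel)
theorem x2_2 : NxOk nets1 ws2 nets2 5 327680 19 4096 2 3 :=
  nxOk_of _ _ _ _ _ _ _ 2 1 _ (by decide) (by decide +kernel)
theorem x2_3 : NxOk nets1 ws2 nets2 5 327680 19 4096 3 4 :=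
  nxOk_of _ _ _ _ _ _ _ 3 1 _ (by decide) (by decide +kernel)
theorem x2_4 : NxOk nets1 ws2 nets2 5 327680 19 4096 4 5 :=
  nxOk_of _ _ _ _ _ _ _ 4 1 _ (by decide) (by decide +kernel)
theorem x2_5 : NxOk nets1 ws2 nets2 5 327680 19 4096 5 6 :=
  nxOk_of _ _ _ _ _ _ _ 5 1 _ (by decide) (by decide +kernel)
theorem x2_6 : NxOk nets1 ws2 nets2 5 327680 19 4096 6 7 :=
  nxOk_of _ _ _ _ _ _ _ 6 1 _ (by decide) (by decide +kernel)
theorem x2_7 : NxOk nets1 ws2 nets2 5 327680 19 4096 7 8 :=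
  nxOk_of _ _ _ _ _ _ _ 7 1 _ (by decide) (by decide +kernel)
theorem x2_8 : NxOk nets1 ws2 nets2 5 327680 19 4096 8 9 :=
  nxOk_of _ _ _ _ _ _ _ 8 1 _ (by decide) (by decide +kernel)
theorem x2_9 : NxOk nets1 ws2 nets2 5 327680 19 4096 9 10 :=
  nxOk_of _ _ _ _ _ _ _ 9 1 _ (by decide) (by decide +kernel)
theorem x2_10 : NxOk nets1 ws2 nets2 5 327680 19 4096 10 11 :=
  nxOk_of _ _ _ _ _ _ _ 10 1 _ (by decide) (by decide +kernel)
theorem x2_11 : NxOk nets1 ws2 nets2 5 327680 19 4096 11 12 :=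
  nxOk_of _ _ _ _ _ _ _ 11 1 _ (by decide) (by decide +kernel)
theorem x2_12 : NxOk nets1 ws2 nets2 5 327680 19 4096 12 13 :=
  nxOk_of _ _ _ _ _ _ _ 12 1 _ (by decide) (by decide +kernel)
theorem x2_13 : NxOk nets1 ws2 nets2 5 327680 19 4096 13 14 :=
  nxOk_of _ _ _ _ _ _ _ 13 1 _ (by decide) (by decide +kernel)
theorem x2_14 : NxOk nets1 ws2 nets2 5 327680 19 4096 14 15 :=
  nxOk_of _ _ _ _ _ _ _ 14 1 _ (by decide) (by decide +kernel)
theorem x2_15 : NxOk nets1 ws2 nets2 5 327680 19 4096 15 16 :=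
  nxOk_of _ _ _ _ _ _ _ 15 1 _ (by decide) (by decide +kernel)
theorem x2_16 : NxOk nets1 ws2 nets2 5 327680 19 4096 16 17 :=
  nxOk_of _ _ _ _ _ _ _ 16 1 _ (by decide) (by decide +kernel)
theorem x2_17 : NxOk nets1 ws2 nets2 5 327680 19 4096 17 18 :=
  nxOk_of _ _ _ _ _ _ _ 17 1 _ (by decide) (by decide +kernel)
theorem x2_18 : NxOk nets1 ws2 nets2 5 327680 19 4096 18 19 :=
  nxOk_of _ _ _ _ _ _ _ 18 1 _ (by decide) (by decide +kernel)
theorem sx2 : sideNx ws2 nets2 11 327680 19 4096 = true := by decide +kernel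
theorem x3_0 : NxOk nets2 ws3 nets3 4 4096 12 768 0 12 :=
  nxOk_of _ _ _ _ _ _ _ 0 12 _ (by decide) (by decide +kernel)
theorem sx3 : sideNx ws3 nets3 5 4096 12 768 = true := by decide +kernel
theorem x4_0 : NxOk nets3 ws4 nets4 4 768 10 256 0 10 :=
  nxOk_of _ _ _ _ _ _ _ 0 10 _ (by decide) (by decide +kernel)
theorem sx4 : sideNx ws4 nets4 4 768 10 256 = true := by decide +kernel
theorem x5_0 : NxOk nets4 ws5 nets5 3 256 8 96 0 8 :=
  nxOk_of _ _ _ _ _ _ _ 0 8 _ (by decide) (by decide +kernel)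
theorem sx5 : sideNx ws5 nets5 4 256 8 96 = true := by decide +kernel
theorem x6_0 : NxOk nets5 ws6 nets6 2 96 7 32 0 7 :=
  nxOk_of _ _ _ _ _ _ _ 0 7 _ (by decide) (by decide +kernel)
theorem sx6 : sideNx ws6 nets6 3 96 7 32 = true := by decide +kernel
theorem x7_0 : NxOk nets6 ws7 nets7 2 32 5 24 0 5 :=
  nxOk_of _ _ _ _ _ _ _ 0 5 _ (by decide) (by decide +kernel)
theorem sx7 : sideNx ws7 nets7 2 32 5 24 = true := by decide +kernel
theorem x8_0 : NxOk nets7 ws8 nets8 2 24 5 16 0 5 :=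
  nxOk_of _ _ _ _ _ _ _ 0 5 _ (by decide) (by decide +kernel)
theorem sx8 : sideNx ws8 nets8 2 24 5 16 = true := by decide +kernel
theorem oi1_0 : (Nat.blt 0 11 && Nat.beq (orbN nets1 11 77 (Nat.shiftLeft 1 1)) k430) = true := by decide +kernel
theorem oi1_1 : (Nat.blt 0 11 && Nat.beq (orbN nets1 11 55 k430) S1) = true := by decide +kernel
theorem ci1 : (Nat.beq (chkInv nets1 11 S1) 0 && S1.testBit 1) = true := by decide +kernel
theorem oi2_0 : (Nat.blt 0 11 && Nat.beq (orbN nets1 11 77 (Nat.shiftLeft 1 279359)) k431) = true := by decide +kernel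
theorem oi2_1 : (Nat.blt 0 11 && Nat.beq (orbN nets1 11 55 k431) S2) = true := by decide +kernel
theorem ci2 : (Nat.beq (chkInv nets1 11 S2) 0 && S2.testBit 279359) = true := by decide +kernel
theorem cm2 : chkMx 327680 nets0 12 ws1 11 306936 w2 279359 J2 lBig = true := by decide +kernel
theorem cm1 : chkMx 327680 nets0 12 ws1 11 306936 w1 1 J1 lBig = true := by decide +kernel
theorem og8 : Nat.ble 6 (popc 4 (orbN nets8 2 4 (Nat.shiftLeft 1 8))) = true := by decide +kernel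
theorem og7 : Nat.ble 6 (popc 5 (orbN nets7 2 4 (Nat.shiftLeft 1 7))) = true := by decide +kernel
theorem og6 : Nat.ble 18 (popc 5 (orbN nets6 2 8 (Nat.shiftLeft 1 6))) = true := by decide +kernel
theorem og5 : Nat.ble 81 (popc 7 (orbN nets5 3 12 (Nat.shiftLeft 1 5))) = true := by decide +kernel
theorem og4 : Nat.ble 240 (popc 8 (orbN nets4 4 16 (Nat.shiftLeft 1 4))) = true := by decide +kernel
theorem og3 : Nat.ble 728 (popc 10 (orbN nets3 4 24 (Nat.shiftLeft 1 3))) = true := by decide +kernel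
theorem og2 : Nat.ble 3240 (popc 12 (orbN nets2 5 30 (Nat.shiftLeft 1 2))) = true := by decide +kernel
end CfH6.F24A
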